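/-
Two-groups fixing a flag, when every root group has at most two elements.
Main results:
* `SmallRoots` : no root group with four elements
* `small_sylow` : such a group is dihedral of order eight or elementary with small centralisers
-/
import Cfsg.Agent.Lib.Mitchell.Transv.Basic
import Cfsg.Agent.S0206
import Cfsg.Agent.Lib.Mitchell.Free.Levi

set_option autoImplicit false
set_option linter.unusedSectionVars false
set_option linter.style.haveILetI false

namespace Cfsg.Agent.Mitchell.Residual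

open Matrix Cfsg.Agent.SL3Max Cfsg.Agent.Transvect

universe u

variable {F : Type u} [Field F]

/-- No root group has four or more elements. -/
def SmallRoots (G : Subgroup (GL (Fin 3) F)) : Prop :=
  ∀ (c χ : V3 F) (l : F), c ≠ 0 → χ ≠ 0 → Transv.T G c χ → Transv.T G c (l • χ) → l = 0 ∨ l = 1

/-- An upper unitriangular matrix. -/
noncomputable def uM (a c b : F) : GL (Fin 3) F :=
  GeneralLinearGroup.mkOfDetNeZero !![1, a, b; 0, 1, c; 0, 0, 1] (by simp [Matrix.det_fin_three])

theorem uM_val (a c b : F) : (uM a c b : Matrix (Fin 3) (Fin 3) F) = !![1, a, b; 0, 1, c; 0, 0, 1] := rfl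

theorem uM_mul (a c b a' c' b' : F) : uM a c b * uM a' c' b' = uM (a + a') (c + c') (b + b' + a * c') := by
  refine Units.ext ?_
  rw [Units.val_mul, uM_val, uM_val, uM_val]
  ext i j
  fin_cases i <;> fin_cases j <;> simp [Matrix.mul_apply, Fin.sum_univ_three] <;> ring

theorem uM_zero : uM (0 : F) 0 0 = 1 := Units.ext (by
  rw [uM_val]; ext i j; fin_cases i <;> fin_cases j <;> simp)

theorem uM_inj {a c b a' c' b' : F} (h : uM a c b = uM a' c' b') : a = a' ∧ c = c' ∧ b = b' := by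
  have h1 := fun i j => congrArg (fun g : GL (Fin 3) F => (g : Matrix (Fin 3) (Fin 3) F) i j) h
  exact ⟨by simpa [uM_val] using h1 0 1, by simpa [uM_val] using h1 1 2, by simpa [uM_val] using h1 0 2⟩

theorem tr_left (a b : F) : Transv.tr ![(1 : F), 0, 0] ![0, a, b] = uM a 0 b := Units.ext (by
  rw [Transv.tr_val (by simp [dotProduct, Fin.sum_univ_three]), uM_val]
  ext i j
  fin_cases i <;> fin_cases j <;> simp [vecMulVec_apply])

theorem tr_right (b c l : F) : Transv.tr ![b, c, 0] (l • ![(0 : F), 0, 1]) = uM 0 (l * c) (l * b) := Units.ext (by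
  rw [Transv.tr_val (by simp [dotProduct, Fin.sum_univ_three]), uM_val]
  ext i j
  fin_cases i <;> fin_cases j <;> simp [vecMulVec_apply] <;> ring)

variable {G : Subgroup (GL (Fin 3) F)}

theorem SmallRoots.left (hs : SmallRoots G) {a b l : F} (hab : a ≠ 0 ∨ b ≠ 0) (h : uM a 0 b ∈ G)
    (h' : uM (l * a) 0 (l * b) ∈ G) : l = 0 ∨ l = 1 := by
  refine hs ![1, 0, 0] ![0, a, b] l (fun e => (one_ne_zero : (1 : F) ≠ 0) (by simpa using congrFun e 0)) (fun e => ?_)
    ⟨by simp [dotProduct, Fin.sum_univ_three], tr_left a b ▸ h⟩ ?_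
  · rcases hab with h | h
    · exact h (by simpa using congrFun e 1)
    · exact h (by simpa using congrFun e 2)
  · rw [show l • ![(0 : F), a, b] = ![0, l * a, l * b] by ext i; fin_cases i <;> simp]
    exact ⟨by simp [dotProduct, Fin.sum_univ_three], tr_left (l * a) (l * b) ▸ h'⟩

theorem SmallRoots.right (hs : SmallRoots G) {c b l : F} (hcb : c ≠ 0 ∨ b ≠ 0) (h : uM 0 c b ∈ G)
    (h' : uM 0 (l * c) (l * b) ∈ G) : l = 0 ∨ l = 1 := by
  refine hs ![b, c, 0] ![0, 0, 1] l (fun e => ?_) (fun e => (one_ne_zero : (1 : F) ≠ 0) (by simpa using congrFun e 2)) ?_ ?_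
  · rcases hcb with h | h
    · exact h (by simpa using congrFun e 1)
    · exact h (by simpa using congrFun e 0)
  · refine ⟨by simp [dotProduct, Fin.sum_univ_three], ?_⟩
    have := tr_right b c 1
    rw [one_smul, one_mul, one_mul] at this
    rw [this]; exact h
  · exact ⟨by simp [dotProduct, Fin.sum_univ_three], tr_right b c l ▸ h'⟩

/-- The centraliser of the standard transvection. -/
theorem of_commute {g : GL (Fin 3) F} (hg : g * uM 0 0 1 = uM 0 0 1 * g)
    (hd : (g : Matrix (Fin 3) (Fin 3) F).det = 1) :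
    ∃ l m a c b : F, l ≠ 0 ∧ l * l * m = 1 ∧
      (g : Matrix (Fin 3) (Fin 3) F) = !![l, a, b; 0, m, c; 0, 0, l] := by
  have h := congrArg (fun u : GL (Fin 3) F => (u : Matrix (Fin 3) (Fin 3) F)) hg
  simp only [Units.val_mul, uM_val] at h
  have e := fun i j => congrFun (congrFun h i) j
  have e02 := e 0 2; have e12 := e 1 2; have e22 := e 2 2; have e01 := e 0 1; have e00 := e 0 0
  simp [Matrix.mul_apply, Fin.sum_univ_three] at e02 e12 e22 e01 e00
  have hd' := hd
  rw [Matrix.det_fin_three] at hd'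
  have h20 : (g : Matrix (Fin 3) (Fin 3) F) 2 0 = 0 := by linear_combination e00
  have h21 : (g : Matrix (Fin 3) (Fin 3) F) 2 1 = 0 := by linear_combination e01
  have h10 : (g : Matrix (Fin 3) (Fin 3) F) 1 0 = 0 := by linear_combination e12
  have h00 : (g : Matrix (Fin 3) (Fin 3) F) 0 0 = (g : Matrix (Fin 3) (Fin 3) F) 2 2 := by linear_combination e02
  refine ⟨(g : Matrix (Fin 3) (Fin 3) F) 2 2, (g : Matrix (Fin 3) (Fin 3) F) 1 1,
    (g : Matrix (Fin 3) (Fin 3) F) 0 1, (g : Matrix (Fin 3) (Fin 3) F) 1 2,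
    (g : Matrix (Fin 3) (Fin 3) F) 0 2, fun h0 => ?_, ?_, ?_⟩
  · rw [h20, h21, h10, h00, h0] at hd'
    simp at hd'
  · rw [h20, h21, h10, h00] at hd'
    linear_combination hd'
  · ext i j
    fin_cases i <;> fin_cases j <;> simp [h20, h21, h10, h00]

/-- A centralising element has cube-trivial diagonal when a second root element is present. -/
theorem cube_of_small [CharP F 2] (hs : SmallRoots G) {g : GL (Fin 3) F} (hgG : g ∈ G)
    {l m a c b : F} (hl : l ≠ 0) (hlm : l * l * m = 1)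
    (hg : (g : Matrix (Fin 3) (Fin 3) F) = !![l, a, b; 0, m, c; 0, 0, l]) {a' c' b' : F}
    (hac : a' * c' = 0) (hne : a' ≠ 0 ∨ c' ≠ 0) (hs' : uM a' c' b' ∈ G) : m = l := by
  have h2 : (2 : F) = 0 := CharTwo.two_eq_zero
  have hm : m ≠ 0 := fun h => by rw [h, mul_zero] at hlm; exact zero_ne_one hlm
  rcases eq_or_ne c' 0 with hc' | hc'
  · -- common centre
    have ha' : a' ≠ 0 := hne.resolve_right (fun h => h hc')
    subst hc'
    obtain ⟨ν, hν⟩ : ∃ ν, ν = l / m := ⟨_, rfl⟩
    obtain ⟨x, hx⟩ : ∃ x, x = c / m := ⟨_, rfl⟩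
    have hconj : ∀ A B, g * uM A 0 B * g⁻¹ = uM (ν * A) 0 (B + x * A) := fun A B => by
      rw [mul_inv_eq_iff_eq_mul]
      refine Units.ext ?_
      rw [Units.val_mul, Units.val_mul, uM_val, uM_val, hg]
      ext i j
      fin_cases i <;> fin_cases j <;> simp [Matrix.mul_apply, Fin.sum_univ_three, hν, hx] <;>
        field_simp <;> first | ring1 | linear_combination h2 * (c * l * A) | linear_combination -h2 * (c * l * A)
    have hD : uM (ν * a' + a') 0 (x * a') ∈ G := by
      have h := G.mul_mem (G.mul_mem (G.mul_mem hgG hs') (G.inv_mem hgG)) hs'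
      rw [hconj, uM_mul] at h
      convert h using 2
      · ring
      · linear_combination -b' * h2
    have hD' := G.mul_mem (G.mul_mem hgG hD) (G.inv_mem hgG)
    rw [hconj] at hD'
    have hν01 : ν = 1 := by
      by_contra hne1
      have hν1 : ν * a' + a' ≠ 0 := fun h => hne1 (by
        have : (ν + 1) * a' = 0 := by linear_combination h
        linear_combination (mul_eq_zero.1 this).resolve_right ha' - h2)
      rcases hs.left (l := ν) (Or.inl hν1) hD (by
        convert hD' using 2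
        linear_combination -(x * a') * h2) with h | h
      · exact div_ne_zero hl hm (hν ▸ h)
      · exact hne1 h
    rw [hν, div_eq_one_iff_eq hm] at hν01
    exact hν01.symm
  · -- common axis
    have ha' : a' = 0 := (mul_eq_zero.1 hac).resolve_right hc'
    subst ha'
    obtain ⟨ν, hν⟩ : ∃ ν, ν = m / l := ⟨_, rfl⟩
    obtain ⟨x, hx⟩ : ∃ x, x = a / l := ⟨_, rfl⟩
    have hconj : ∀ C B, g * uM 0 C B * g⁻¹ = uM 0 (ν * C) (B + x * C) := fun C B => by
      rw [mul_inv_eq_iff_eq_mul]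
      refine Units.ext ?_
      rw [Units.val_mul, Units.val_mul, uM_val, uM_val, hg]
      ext i j
      fin_cases i <;> fin_cases j <;> simp [Matrix.mul_apply, Fin.sum_univ_three, hν, hx] <;>
        field_simp <;> ring
    have hD : uM 0 (ν * c' + c') (x * c') ∈ G := by
      have h := G.mul_mem (G.mul_mem (G.mul_mem hgG hs') (G.inv_mem hgG)) hs'
      rw [hconj, uM_mul] at h
      convert h using 2
      · ring
      · linear_combination -b' * h2
    have hD' := G.mul_mem (G.mul_mem hgG hD) (G.inv_mem hgG)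
    rw [hconj] at hD'
    have hν01 : ν = 1 := by
      by_contra hne1
      have hν1 : ν * c' + c' ≠ 0 := fun h => hne1 (by
        have : (ν + 1) * c' = 0 := by linear_combination h
        linear_combination (mul_eq_zero.1 this).resolve_right hc' - h2)
      rcases hs.right (l := ν) (Or.inl hν1) hD (by
        convert hD' using 2
        linear_combination -(x * c') * h2) with h | h
      · exact div_ne_zero hm hl (hν ▸ h)
      · exact hne1 h
    rw [hν, div_eq_one_iff_eq hl] at hν01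
    exact hν01

/-- **The Sylow structure, in standard coordinates.** -/
theorem small_sylow_std [Finite F] [CharP F 2] (hsl : G ≤ Cfsg.Geo.specialLinear (Fin 3) F) (hs : SmallRoots G)
    (T : Subgroup (GL (Fin 3) F)) (hTG : T ≤ G) (hT2 : ∀ g ∈ T, ∃ n, g ^ 2 ^ n = 1)
    (ht : uM 0 0 1 ∈ T) (hcen : ∀ g ∈ T, g * uM 0 0 1 = uM 0 0 1 * g)
    (hother : ∃ s ∈ T, s * s = 1 ∧ s ≠ 1 ∧ s ≠ uM 0 0 1) :
    Nonempty (T ≃* DihedralGroup 4) ∨
      ((∀ g ∈ T, g * g = 1) ∧
        ∀ g ∈ G, g * uM 0 0 1 = uM 0 0 1 * g → g ^ 4 ∈ Cfsg.Geo.scalars (Fin 3) F) := by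
  classical
  haveI : Fact (Nat.Prime 2) := ⟨Nat.prime_two⟩
  have h2 : (2 : F) = 0 := CharTwo.two_eq_zero
  have hshape : ∀ g ∈ T, ∃ a c b, g = uM a c b := fun g hg => by
    obtain ⟨l, m, a, c, b, hl, hlm, hgm⟩ := of_commute (hcen g hg) (mem_sl_iff.1 (hsl (hTG hg)))
    obtain ⟨n, hn⟩ := hT2 g hg
    have g20 : (g : Matrix (Fin 3) (Fin 3) F) 2 0 = 0 := by simp [hgm]
    have g21 : (g : Matrix (Fin 3) (Fin 3) F) 2 1 = 0 := by simp [hgm]
    have g22 : (g : Matrix (Fin 3) (Fin 3) F) 2 2 = l := by simp [hgm]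
    have h22 : ∀ k : ℕ, ((g : Matrix (Fin 3) (Fin 3) F) ^ k) 2 0 = 0 ∧ ((g : Matrix (Fin 3) (Fin 3) F) ^ k) 2 1 = 0 ∧
        ((g : Matrix (Fin 3) (Fin 3) F) ^ k) 2 2 = l ^ k := fun k => by
      induction k with
      | zero => simp
      | succ k ih =>
        rw [pow_succ]
        refine ⟨?_, ?_, ?_⟩ <;> simp [Matrix.mul_apply, Fin.sum_univ_three, ih.1, ih.2.1, ih.2.2, g20, g21, g22, pow_succ]
    have hl1 : l = 1 := by
      have h := (h22 (2 ^ n)).2.2
      rw [← Units.val_pow_eq_pow_val, hn, Units.val_one, Matrix.one_apply_eq] at h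
      have : (l - 1) ^ 2 ^ n = 0 := by rw [sub_pow_char_pow, ← h, one_pow, sub_self]
      exact sub_eq_zero.1 ((pow_eq_zero_iff (by positivity)).1 this)
    subst hl1
    rw [one_mul, one_mul] at hlm
    subst hlm
    exact ⟨a, c, b, Units.ext (hgm.trans (uM_val a c b).symm)⟩
  have hker : ∀ b, uM 0 0 b ∈ T → b = 0 ∨ b = 1 := fun b hb =>
    hs.left (a := 0) (b := 1) (l := b) (Or.inr one_ne_zero) (hTG ht) (by simpa using hTG hb)
  have hsq : ∀ {a c b}, uM a c b ∈ T → a * c = 0 ∨ a * c = 1 := fun {a c b} h => by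
    have h1 := T.mul_mem h h
    rw [uM_mul, CharTwo.add_self_eq_zero, CharTwo.add_self_eq_zero, CharTwo.add_self_eq_zero, zero_add] at h1
    exact hker _ h1
  -- splitting off a root element
  obtain ⟨s, hsT, hs2, hs1, hst⟩ := hother
  obtain ⟨a₀, c₀, b₀, rfl⟩ := hshape s hsT
  have hac₀ : a₀ * c₀ = 0 := by
    rw [uM_mul, CharTwo.add_self_eq_zero, CharTwo.add_self_eq_zero, CharTwo.add_self_eq_zero, zero_add,
      ← uM_zero] at hs2
    exact (uM_inj hs2).2.2
  have hne₀ : a₀ ≠ 0 ∨ c₀ ≠ 0 := by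
    by_contra h
    push Not at h
    obtain ⟨rfl, rfl⟩ := h
    rcases hker b₀ hsT with rfl | rfl
    · exact hs1 uM_zero
    · exact hst rfl
  by_cases hAB : (∃ a b, a ≠ 0 ∧ uM a 0 b ∈ T) ∧ ∃ c b, c ≠ 0 ∧ uM 0 c b ∈ T
  · -- dihedral
    left
    obtain ⟨⟨a₁, b₁, ha₁, h₁⟩, c₂, b₂, hc₂, h₂⟩ := hAB
    have hprod : a₁ * c₂ = 1 := by
      have h := T.mul_mem h₁ h₂
      rw [uM_mul, add_zero, zero_add] at h
      exact (hsq h).resolve_left (mul_ne_zero ha₁ hc₂)
    obtain ⟨x, hx⟩ : ∃ x, x = uM a₁ 0 b₁ := ⟨_, rfl⟩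
    obtain ⟨y, hy⟩ : ∃ y, y = uM 0 c₂ b₂ := ⟨_, rfl⟩
    have hA : ∀ a b, a ≠ 0 → uM a 0 b ∈ T → a = a₁ := fun a b ha h => by
      have h' := T.mul_mem h h₂
      rw [uM_mul, add_zero, zero_add] at h'
      have := (hsq h').resolve_left (mul_ne_zero ha hc₂)
      exact mul_right_cancel₀ hc₂ (this.trans hprod.symm)
    have hB : ∀ c b, c ≠ 0 → uM 0 c b ∈ T → c = c₂ := fun c b hc h => by
      have h' := T.mul_mem h₁ h
      rw [uM_mul, add_zero, zero_add] at h'
      have := (hsq h').resolve_left (mul_ne_zero ha₁ hc)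
      exact mul_left_cancel₀ ha₁ (this.trans hprod.symm)
    have hgen : T = Subgroup.closure {x, y} := by
      refine le_antisymm (fun g hg => ?_) ((Subgroup.closure_le T).2 (by
        rintro z (rfl | rfl)
        exacts [hx ▸ h₁, hy ▸ h₂]))
      have hxC : x ∈ Subgroup.closure {x, y} := Subgroup.subset_closure (by simp)
      have hyC : y ∈ Subgroup.closure {x, y} := Subgroup.subset_closure (by simp)
      have htC : uM 0 0 1 ∈ Subgroup.closure {x, y} := by
        have h := mul_mem (mul_mem hxC hyC) (mul_mem hxC hyC)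
        have e : x * y * (x * y) = uM 0 0 1 := by
          rw [hx, hy, uM_mul, uM_mul, add_zero, zero_add, CharTwo.add_self_eq_zero, CharTwo.add_self_eq_zero,
            CharTwo.add_self_eq_zero, zero_add, hprod]
        rwa [e] at h
      have hker' : ∀ b, uM 0 0 b ∈ T → uM 0 0 b ∈ Subgroup.closure {x, y} := fun b hb => by
        rcases hker b hb with rfl | rfl
        · rw [uM_zero]; exact one_mem _
        · exact htC
      have hA' : ∀ a b, uM a 0 b ∈ T → uM a 0 b ∈ Subgroup.closure {x, y} := fun a b h => by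
        rcases eq_or_ne a 0 with rfl | ha
        · exact hker' b h
        · have e : uM a 0 b = uM 0 0 (b + b₁) * x := by
            rw [hx, uM_mul, hA a b ha h, add_zero, zero_mul, add_zero, zero_add, add_assoc,
              CharTwo.add_self_eq_zero, add_zero]
          rw [e]
          refine mul_mem (hker' _ ?_) hxC
          have h' : uM a 0 b * x ∈ T := T.mul_mem h (hx ▸ h₁)
          rwa [hx, uM_mul, hA a b ha h, CharTwo.add_self_eq_zero, add_zero, mul_zero, add_zero] at h'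
      have hB' : ∀ c b, uM 0 c b ∈ T → uM 0 c b ∈ Subgroup.closure {x, y} := fun c b h => by
        rcases eq_or_ne c 0 with rfl | hc
        · exact hker' b h
        · have e : uM 0 c b = uM 0 0 (b + b₂) * y := by
            rw [hy, uM_mul, hB c b hc h]
            simp [add_assoc, CharTwo.add_self_eq_zero]
          rw [e]
          refine mul_mem (hker' _ ?_) hyC
          have h' : uM 0 c b * y ∈ T := T.mul_mem h (hy ▸ h₂)
          rw [hy, uM_mul, hB c b hc h, CharTwo.add_self_eq_zero] at h'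
          simpa [CharTwo.add_self_eq_zero] using h'
      obtain ⟨a, c, b, rfl⟩ := hshape g hg
      rcases eq_or_ne c 0 with rfl | hc
      · exact hA' a b hg
      rcases eq_or_ne a 0 with rfl | ha
      · exact hB' c b hg
      have hac := (hsq hg).resolve_left (mul_ne_zero ha hc)
      have h' := T.mul_mem (hx ▸ h₁ : x ∈ T) hg
      have ha1 : a = a₁ := by
        by_contra hne
        have hne' : a₁ + a ≠ 0 := fun h0 => hne (by linear_combination h0 - a₁ * h2)
        rw [hx, uM_mul, zero_add] at h'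
        have := (hsq h').resolve_left (mul_ne_zero hne' hc)
        exact mul_ne_zero ha₁ hc (by linear_combination this - hac)
      rw [hx, uM_mul, zero_add, ← ha1, CharTwo.add_self_eq_zero] at h'
      have hh := hB' _ _ h'
      have e : uM a c b = x⁻¹ * (x * uM a c b) := by group
      rw [e]
      refine mul_mem (inv_mem hxC) ?_
      have e2 : x * uM a c b = uM 0 c (b₁ + b + a * c) := by
        rw [hx, uM_mul, zero_add, ← ha1, CharTwo.add_self_eq_zero]
      rw [e2]
      exact hh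
    have hxo : orderOf x = 2 := orderOf_eq_prime
      (by rw [hx, pow_two, uM_mul, CharTwo.add_self_eq_zero, zero_add, mul_zero, add_zero,
        CharTwo.add_self_eq_zero, uM_zero])
      (fun h => ha₁ (uM_inj (hx ▸ h.trans uM_zero.symm)).1)
    have hyo : orderOf y = 2 := orderOf_eq_prime
      (by rw [hy, pow_two, uM_mul, CharTwo.add_self_eq_zero c₂, CharTwo.add_self_eq_zero b₂]
          simp [uM_zero])
      (fun h => hc₂ (uM_inj (hy ▸ h.trans uM_zero.symm)).2.1)
    have hxy : x ≠ y := fun h => ha₁ (uM_inj (hx ▸ hy ▸ h : uM a₁ 0 b₁ = uM 0 c₂ b₂)).1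
    have ho4 : orderOf (x * y) = 4 := by
      have hp : x * y = uM a₁ c₂ (b₁ + b₂ + 1) := by rw [hx, hy, uM_mul, add_zero, zero_add, hprod]
      have hp2 : (x * y) ^ 2 = uM 0 0 1 := by
        rw [hp, pow_two, uM_mul, CharTwo.add_self_eq_zero, CharTwo.add_self_eq_zero,
          CharTwo.add_self_eq_zero, zero_add, hprod]
      refine orderOf_eq_prime_pow (p := 2) (n := 1) ?_ ?_
      · rw [pow_one, hp2]
        exact fun h => one_ne_zero (uM_inj (h.trans uM_zero.symm)).2.2
      · rw [show 2 ^ (1 + 1) = 2 * 2 from rfl, pow_mul, hp2, pow_two, uM_mul, CharTwo.add_self_eq_zero,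
          mul_zero, add_zero, CharTwo.add_self_eq_zero, uM_zero]
    obtain ⟨e⟩ := Cfsg.Agent.S0206.result x y hxo hyo hxy
    exact ⟨(MulEquiv.subgroupCongr hgen).trans (ho4 ▸ e)⟩
  · -- elementary
    right
    refine ⟨fun g hg => ?_, fun g hg hgt => ?_⟩
    · obtain ⟨a, c, b, rfl⟩ := hshape g hg
      rw [uM_mul, CharTwo.add_self_eq_zero, CharTwo.add_self_eq_zero, CharTwo.add_self_eq_zero, zero_add]
      suffices a * c = 0 by rw [this, uM_zero]
      by_contra hac
      have hac1 := (hsq hg).resolve_left hac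
      obtain ⟨ha, hc⟩ := mul_ne_zero_iff.1 hac
      have h' := T.mul_mem hsT hg
      rw [uM_mul] at h'
      rcases eq_or_ne c₀ 0 with hc₀ | hc₀
      · have ha₀ := hne₀.resolve_right (fun h => h hc₀)
        subst hc₀
        rw [zero_add] at h'
        by_cases hsum : a₀ + a = 0
        · rw [hsum] at h'
          exact hAB ⟨⟨a₀, b₀, ha₀, hsT⟩, c, _, hc, h'⟩
        · have := (hsq h').resolve_left (mul_ne_zero hsum hc)
          exact mul_ne_zero ha₀ hc (by linear_combination this - hac1)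
      · have ha₀ : a₀ = 0 := (mul_eq_zero.1 hac₀).resolve_right hc₀
        subst ha₀
        rw [zero_add] at h'
        by_cases hsum : c₀ + c = 0
        · rw [hsum] at h'
          exact hAB ⟨⟨a, _, ha, h'⟩, c₀, b₀, hc₀, hsT⟩
        · have := (hsq h').resolve_left (mul_ne_zero ha hsum)
          exact mul_ne_zero ha hc₀ (by linear_combination this - hac1)
    · obtain ⟨l, m, a, c, b, hl, hlm, hgm⟩ := of_commute hgt (mem_sl_iff.1 (hsl hg))
      have hml := cube_of_small hs hg hl hlm hgm hac₀ hne₀ (hTG hsT)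
      subst hml
      refine (Cfsg.Geo.mem_scalars_iff _).2 ⟨Units.mk0 (m ^ 4) (pow_ne_zero _ hl), ?_⟩
      rw [Units.val_pow_eq_pow_val, hgm]
      ext i j
      fin_cases i <;> fin_cases j <;> simp [pow_succ, Matrix.mul_apply, Fin.sum_univ_three] <;>
        first | ring1 | skip
      all_goals first
        | linear_combination (2 * m ^ 3 * a) * h2
        | linear_combination (2 * m ^ 3 * c) * h2
        | linear_combination (2 * m ^ 3 * b + 3 * m ^ 2 * a * c) * h2

/-- **The Sylow structure.** -/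
theorem small_sylow [Finite F] [CharP F 2] (hsl : G ≤ Cfsg.Geo.specialLinear (Fin 3) F) (hs : SmallRoots G)
    (T : Subgroup (GL (Fin 3) F)) (hTG : T ≤ G) (hT2 : ∀ g ∈ T, ∃ n, g ^ 2 ^ n = 1)
    {c : V3 F} {φ : D3 F} (hc : c ≠ 0) (hφ : φ ≠ 0) (hφc : φ c = 0) (ht : tv c φ ∈ T)
    (hcen : ∀ g ∈ T, g * tv c φ = tv c φ * g)
    (hother : ∃ s ∈ T, s * s = 1 ∧ s ≠ 1 ∧ s ≠ tv c φ) :
    Nonempty (T ≃* DihedralGroup 4) ∨
      ((∀ g ∈ T, g * g = 1) ∧
        ∀ g ∈ G, g * tv c φ = tv c φ * g → g ^ 4 ∈ Cfsg.Geo.scalars (Fin 3) F) := by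
  classical
  obtain ⟨χ, rfl⟩ := Transv.exists_dot φ
  obtain ⟨v, hv⟩ : ∃ v, Transv.dot χ v = 1 := by
    obtain ⟨v, hv⟩ : ∃ v, Transv.dot χ v ≠ 0 := by
      by_contra h
      push Not at h
      exact hφ (LinearMap.ext fun x => by rw [h x]; rfl)
    exact ⟨(Transv.dot χ v)⁻¹ • v, by rw [map_smul, smul_eq_mul, inv_mul_cancel₀ hv]⟩
  obtain ⟨w, hw, hwc⟩ : ∃ w, Transv.dot χ w = 0 ∧ w ∉ F ∙ c := by
    by_contra h
    push Not at h
    have hle : LinearMap.ker (Transv.dot χ) ≤ F ∙ c := fun x hx => h x hx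
    have h1 := Submodule.finrank_mono hle
    have h2 := LinearMap.finrank_range_add_finrank_ker (Transv.dot χ)
    rw [finrank_span_singleton hc] at h1
    rw [Module.finrank_fin_fun] at h2
    have h3 := Submodule.finrank_le (LinearMap.range (Transv.dot χ))
    rw [Module.finrank_self] at h3
    omega
  let Qm : Matrix (Fin 3) (Fin 3) F := Matrix.of fun i j => ![c i, w i, v i] j
  have hQv : ∀ x, Qm *ᵥ x = x 0 • c + x 1 • w + x 2 • v := fun x => by
    ext i; simp [Qm, Matrix.mulVec, dotProduct, Fin.sum_univ_three]; ring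
  have hQd : Qm.det ≠ 0 := by
    intro h0
    obtain ⟨x, hx, hx0⟩ := Matrix.exists_mulVec_eq_zero_iff.2 h0
    rw [hQv] at hx0
    have hx2 : x 2 = 0 := by
      have := congrArg (Transv.dot χ) hx0
      simpa [map_add, map_smul, hφc, hw, hv] using this
    rw [hx2, zero_smul, add_zero] at hx0
    have hx1 : x 1 = 0 := by
      by_contra h1
      refine hwc (Submodule.mem_span_singleton.2 ⟨-(x 0 / x 1), ?_⟩)
      have := congrArg ((x 1)⁻¹ • ·) hx0
      simp only [smul_add, smul_smul, inv_mul_cancel₀ h1, one_smul, smul_zero] at this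
      rw [eq_neg_of_add_eq_zero_right this, div_eq_inv_mul, neg_smul]
    rw [hx1, zero_smul, add_zero, smul_eq_zero] at hx0
    exact hx (funext fun i => by fin_cases i <;> simp [hx0.resolve_right hc, hx1, hx2])
  let Q : GL (Fin 3) F := GeneralLinearGroup.mkOfDetNeZero Qm hQd
  have hQt : Q * uM 0 0 1 * Q⁻¹ = tv c (Transv.dot χ) := by
    rw [← tr_left, Transv.tr_conj (g := Q) (by simp [dotProduct, Fin.sum_univ_three])]
    show Transv.tr (Qm *ᵥ _) (_ ᵥ* ((Q⁻¹ : GL (Fin 3) F) : Matrix (Fin 3) (Fin 3) F)) = Transv.tr c χ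
    have hc' : Qm *ᵥ ![(1 : F), 0, 0] = c := by rw [hQv]; simp
    have hχ : χ ᵥ* Qm = ![0, 0, 1] := by
      ext j
      have hcol : (χ ᵥ* Qm) j = χ ⬝ᵥ ![c, w, v] j := by
        fin_cases j <;> simp [Qm, Matrix.vecMul, dotProduct]
      rw [hcol]
      fin_cases j
      · simpa using hφc
      · simpa using hw
      · simpa using hv
    rw [hc', ← hχ, Matrix.vecMul_vecMul,
      show Qm * ((Q⁻¹ : GL (Fin 3) F) : Matrix (Fin 3) (Fin 3) F) = 1 from Units.mul_inv Q, Matrix.vecMul_one]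
  let f : GL (Fin 3) F →* GL (Fin 3) F := Transv.conjHom Q
  have hf : ∀ g, f g = Q⁻¹ * g * Q := fun g => by simp [f, Transv.conjHom]
  have hinj : Function.Injective f := (MulAut.conj Q⁻¹).injective
  have hft : f (tv c (Transv.dot χ)) = uM 0 0 1 := by rw [hf, ← hQt]; group
  have hsl' : G.map f ≤ Cfsg.Geo.specialLinear (Fin 3) F := by
    rintro _ ⟨g, hg, rfl⟩
    rw [hf, mem_sl_iff, Units.val_mul, Units.val_mul, Matrix.det_mul, Matrix.det_mul,
      mem_sl_iff.1 (hsl hg), mul_one, ← Matrix.det_mul, ← Units.val_mul, inv_mul_cancel, Units.val_one,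
      Matrix.det_one]
  have hs' : SmallRoots (G.map f) := by
    intro e ψ l he hψ h h'
    have key : ∀ {ψ}, Transv.T (G.map f) e ψ → Transv.T G ((Q : Matrix (Fin 3) (Fin 3) F) *ᵥ e)
        (ψ ᵥ* ((Q⁻¹ : GL (Fin 3) F) : Matrix (Fin 3) (Fin 3) F)) := by
      rintro ψ ⟨h0, g, hg, hgt⟩
      refine ⟨by rw [← Matrix.dotProduct_mulVec, Matrix.mulVec_mulVec, ← Units.val_mul, inv_mul_cancel,
        Units.val_one, Matrix.one_mulVec, h0], ?_⟩
      rw [← Transv.tr_conj h0, ← hgt, hf]
      simpa [mul_assoc] using hg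
    refine hs _ _ l (fun h0 => he ?_) (fun h0 => hψ ?_) (key h) (by simpa [Matrix.smul_vecMul] using key h')
    · simpa [Matrix.mulVec_mulVec, ← Units.val_mul] using
        congrArg (fun z => ((Q⁻¹ : GL (Fin 3) F) : Matrix (Fin 3) (Fin 3) F) *ᵥ z) h0
    · simpa [Matrix.vecMul_vecMul, ← Units.val_mul] using
        congrArg (fun z => z ᵥ* (Q : Matrix (Fin 3) (Fin 3) F)) h0
  obtain ⟨s, hsT, hs2, hs1, hst⟩ := hother
  rcases small_sylow_std hsl' hs' (T.map f) (Subgroup.map_mono hTG)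
    (by rintro _ ⟨g, hg, rfl⟩; obtain ⟨n, hn⟩ := hT2 g hg; exact ⟨n, by rw [← map_pow, hn, map_one]⟩)
    ⟨_, ht, hft⟩ (by rintro _ ⟨g, hg, rfl⟩; rw [← hft, ← map_mul, ← map_mul, hcen g hg])
    ⟨f s, ⟨s, hsT, rfl⟩, by rw [← map_mul, hs2, map_one], fun h => hs1 (hinj (h.trans (map_one f).symm)),
      fun h => hst (hinj (h.trans hft.symm))⟩ with ⟨⟨e⟩⟩ | ⟨h1, h4⟩
  · exact Or.inl ⟨(Subgroup.equivMapOfInjective T f hinj).trans e⟩
  · refine Or.inr ⟨fun g hg => hinj (by rw [map_mul, map_one]; exact h1 _ ⟨g, hg, rfl⟩), fun g hg hgt => ?_⟩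
    have h := h4 _ ⟨g, hg, rfl⟩ (by rw [← hft, ← map_mul, ← map_mul, hgt])
    rw [← map_pow, hf] at h
    have h5 := scalar_central h Q
    have h6 : g ^ 4 = Q⁻¹ * g ^ 4 * Q := by
      have h7 : Q * (Q⁻¹ * g ^ 4 * Q) = g ^ 4 * Q := by group
      refine mul_right_cancel (b := Q) ?_
      rw [h5, h7]
    rw [h6]
    exact h

end Cfsg.Agent.Mitchell.Residual
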