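/-
Residual cores in characteristic two.
Main results:
* `Res.two_dvd`, `Res.commute_exact`, `Res.exists_second_involution`
* `Res.even_cases` : classical, self-dual, or one of the small quotients
-/
import Cfsg.Agent.Lib.Mitchell.Residual.Even.Flag
import Cfsg.Agent.Lib.Mitchell.Residual.Elations
import Cfsg.Agent.Lib.Mitchell.TransvTwo.Main
import Cfsg.Agent.Lib.ZStar.Apply
import Cfsg.Agent.Lib.ZStarPrimePower.Proved
import Cfsg.Agent.Lib.OddTrans.OddSylow
import Cfsg.Agent.Lib.Cores.Basic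
import Cfsg.Agent.S0205
import Cfsg.Agent.S0483
import Cfsg.Agent.S1230

set_option autoImplicit false
set_option linter.unusedSectionVars false
set_option linter.style.haveILetI false

namespace Cfsg.Agent.Mitchell.Residual

open Matrix Cfsg.Agent.SL3Max Cfsg.Agent.Transvect

universe u

variable {F : Type u} [Field F] {P : Subgroup (GL (Fin 3) F)}

theorem Res.zz_two (R : Res P) {z : ↥P} (hz : z ∈ zz P) (h : z ^ 2 = 1) : z = 1 :=
  zz_eq_one_of_pow R.sl hz (by norm_num) h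

/-- Commuting with an involution modulo scalars is commuting. -/
theorem Res.commute_exact (R : Res P) {t g : ↥P} (ht : t * t = 1)
    (h : qq P g * qq P t = qq P t * qq P g) : g * t = t * g := by
  obtain ⟨z, hz⟩ : ∃ z, z = t⁻¹ * (g * t * g⁻¹) := ⟨_, rfl⟩
  have hzz : z ∈ zz P := by
    rw [← qq_eq_one, hz]
    simp only [map_mul, map_inv]
    rw [h]; group
  have e : g * t * g⁻¹ = t * z := by rw [hz, mul_inv_cancel_left]
  have h1 : (g * t * g⁻¹) * (g * t * g⁻¹) = 1 := by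
    rw [show g * t * g⁻¹ * (g * t * g⁻¹) = g * (t * t) * g⁻¹ by group, ht, mul_one, mul_inv_cancel]
  rw [e, mul_assoc, ← mul_assoc z, ← zz_central hzz t, mul_assoc t z, ← mul_assoc, ht, one_mul] at h1
  rw [R.zz_two hzz (by rw [pow_two]; exact h1), mul_one] at e
  exact mul_inv_eq_iff_eq_mul.1 e

theorem Res.two_dvd [Finite F] (R : Res P) : 2 ∣ Nat.card (Quo P) := by
  by_contra h
  haveI := R.simple
  have hodd : Odd (Nat.card (Quo P)) := Nat.odd_iff.2 (by omega)
  haveI := Cfsg.Agent.S0205.result hodd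
  exact R.nonab ⟨⟨IsSimpleGroup.comm_iff_isSolvable.2 inferInstance⟩⟩

theorem Res.perfect_quo (R : Res P) : commutator (Quo P) = ⊤ := by
  haveI := R.simple
  rcases (inferInstance : (commutator (Quo P)).Normal).eq_bot_or_eq_top with h | h
  · exact absurd ((commutator_eq_bot_iff (Quo P)).1 h) R.nonab
  · exact h

theorem Res.center_quo (R : Res P) : Subgroup.center (Quo P) = ⊥ := by
  haveI := R.simple
  rcases (inferInstance : (Subgroup.center (Quo P)).Normal).eq_bot_or_eq_top with h | h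
  · exact h
  · exact absurd ⟨⟨fun a b => Subgroup.mem_center_iff.1 (h ▸ Subgroup.mem_top b) a⟩⟩ R.nonab

theorem Res.oddCore_quo [Finite F] (R : Res P) : Cfsg.oddCore (Quo P) = ⊥ := by
  haveI := R.simple
  haveI : Fact (Nat.Prime 2) := ⟨Nat.prime_two⟩
  rcases (Cores.pPrimeCore_normal 2 (Quo P)).eq_bot_or_eq_top with h | h
  · exact h
  · have hodd := Cores.coprime_card_pPrimeCore (G := Quo P) 2
    rw [h, Subgroup.card_top] at hodd
    exact absurd (Nat.eq_one_of_dvd_coprimes hodd R.two_dvd dvd_rfl) (by norm_num)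

theorem Res.qq_inj_of_two (R : Res P) {x : ↥P} {n : ℕ} (hx : x ^ 2 ^ n = 1) (h : qq P x = 1) : x = 1 :=
  zz_eq_one_of_pow R.sl (qq_eq_one.1 h) (Nat.Coprime.pow_left n (by norm_num)) hx

/-- An involution central in a Sylow subgroup has company in it. -/
theorem Res.exists_second_involution [Finite F] (R : Res P) (T : Sylow 2 ↥P) {t : ↥P}
    (ht : orderOf t = 2) (hcen : ∀ g ∈ (T : Subgroup ↥P), g * t = t * g) :
    ∃ s ∈ (T : Subgroup ↥P), s * s = 1 ∧ s ≠ 1 ∧ s ≠ t := by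
  haveI : Fact (Nat.Prime 2) := ⟨Nat.prime_two⟩
  have ht2 : t * t = 1 := by rw [← pow_two, ← ht, pow_orderOf_eq_one]
  have ht1 : t ≠ 1 := fun h => by rw [h, orderOf_one] at ht; norm_num at ht
  have hqt : orderOf (qq P t) = 2 := orderOf_eq_prime (by rw [pow_two, ← map_mul, ht2, map_one])
    (fun h => ht1 (R.qq_inj_of_two (n := 1) (by rw [pow_one, pow_two, ht2]) h))
  obtain ⟨k, hk2, hk1, hkt, hkc⟩ : ∃ k : ↥P, k * k = 1 ∧ k ≠ 1 ∧ k ≠ t ∧ k * t = t * k := by
    by_contra hno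
    have hiso : Cfsg.IsIsolatedInvolution (qq P t) := by
      refine ⟨hqt, fun g' hg' => ?_⟩
      obtain ⟨g, rfl⟩ := QuotientGroup.mk'_surjective _ g'
      by_contra hne
      have hk : qq P (g * t * g⁻¹) = qq P g * qq P t * (qq P g)⁻¹ := by rw [map_mul, map_mul, map_inv]
      refine hno ⟨g * t * g⁻¹, ?_, fun h => ht1 ?_, fun h => hne ?_, R.commute_exact ht2 ?_⟩
      · rw [show g * t * g⁻¹ * (g * t * g⁻¹) = g * (t * t) * g⁻¹ by group, ht2, mul_one, mul_inv_cancel]
      · rwa [mul_inv_eq_one, mul_eq_left] at h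
      · rw [← hk, h]
      · rw [hk]; exact hg'.eq.symm
    have hmem := ZStar.isolated_mem_center ZStarPrimePower.uniqueInvolutionZStar_proved hiso R.oddCore_quo
    rw [R.center_quo, Subgroup.mem_bot] at hmem
    rw [hmem, orderOf_one] at hqt
    norm_num at hqt
  obtain ⟨C, hC⟩ : ∃ C, C = Subgroup.centralizer ({t} : Set ↥P) := ⟨_, rfl⟩
  have hTC : (T : Subgroup ↥P) ≤ C := fun g hg =>
    hC ▸ Subgroup.mem_centralizer_singleton_iff.2 (hcen g hg)
  have hkC : k ∈ C := hC ▸ Subgroup.mem_centralizer_singleton_iff.2 hkc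
  obtain ⟨Q, hQ⟩ : ∃ Q : Sylow 2 C, Subgroup.zpowers (⟨k, hkC⟩ : C) ≤ Q := by
    refine IsPGroup.exists_le_sylow ?_
    rintro ⟨y, i, rfl⟩
    refine ⟨1, Subtype.ext ?_⟩
    show ((⟨k, hkC⟩ : C) ^ i) ^ (2 ^ 1) = 1
    rw [pow_one, ← zpow_natCast, ← _root_.zpow_mul, mul_comm, _root_.zpow_mul, zpow_natCast,
      show (⟨k, hkC⟩ : C) ^ 2 = 1 from Subtype.ext (by rw [SubgroupClass.coe_pow, pow_two]; exact hk2),
      _root_.one_zpow]
  obtain ⟨h, hh⟩ := MulAction.exists_smul_eq C Q (T.subtype hTC)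
  have hkQ := hQ (Subgroup.mem_zpowers (⟨k, hkC⟩ : C))
  have hmem : h * ⟨k, hkC⟩ * h⁻¹ ∈ (T.subtype hTC : Subgroup C) := by
    rw [← hh, Sylow.coe_subgroup_smul]
    exact ⟨_, hkQ, rfl⟩
  rw [Sylow.coe_subtype, Subgroup.mem_subgroupOf] at hmem
  have hht : (h : ↥P) * t = t * h := Subgroup.mem_centralizer_singleton_iff.1 (hC ▸ h.2)
  refine ⟨_, hmem, ?_, fun e => hk1 ?_, fun e => hkt ?_⟩
  · push_cast
    rw [show (h : ↥P) * k * (h : ↥P)⁻¹ * ((h : ↥P) * k * (h : ↥P)⁻¹) = (h : ↥P) * (k * k) * (h : ↥P)⁻¹ by group,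
      hk2, mul_one, mul_inv_cancel]
  · push_cast at e
    rwa [mul_inv_eq_one, mul_eq_left] at e
  · push_cast at e
    rw [mul_inv_eq_iff_eq_mul, ← hht] at e
    exact mul_left_cancel e

variable [Fintype F] [CharP F 2]

/-- All root groups small: dihedral Sylow subgroups or `PSL₂(2^k)`. -/
theorem Res.small_roots_cases (R : Res P) {α : ℕ} (hF : Fintype.card F = 2 ^ α) (hs : SmallRoots P) :
    HasQuad P ∨
      ((∃ (K : Type) (_ : Field K) (_ : Fintype K), Odd (Fintype.card K) ∧ 3 < Fintype.card K ∧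
        Nonempty (Quo P ≃* Matrix.ProjectiveSpecialLinearGroup (Fin 2) K)) ∨
      Nonempty (Quo P ≃* alternatingGroup (Fin 7))) := by
  classical
  haveI : Fact (Nat.Prime 2) := ⟨Nat.prime_two⟩
  haveI := R.simple
  have h2 : (2 : F) = 0 := CharTwo.two_eq_zero
  obtain ⟨T⟩ : Nonempty (Sylow 2 ↥P) := inferInstance
  let Tq : Sylow 2 (Quo P) := T.mapSurjective (QuotientGroup.mk'_surjective (zz P))
  have hTq : (Tq : Subgroup (Quo P)) = (T : Subgroup ↥P).map (qq P) := Sylow.coe_mapSurjective _ _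
  have hpow : ∀ g ∈ (T : Subgroup ↥P), ∃ n, g ^ 2 ^ n = 1 := fun g hg => by
    obtain ⟨n, hn⟩ := T.isPGroup' ⟨g, hg⟩
    exact ⟨n, congrArg Subtype.val hn⟩
  have hinj : Set.InjOn (qq P) (T : Subgroup ↥P) := fun a ha b hb hab => by
    obtain ⟨n, hn⟩ := hpow _ (mul_mem ha (inv_mem hb))
    exact mul_inv_eq_one.1 (R.qq_inj_of_two hn (by rw [map_mul, map_inv, hab, mul_inv_cancel]))
  obtain ⟨fT⟩ : Nonempty ((Tq : Subgroup (Quo P)) ≃* ↥(T : Subgroup ↥P)) := by
    refine ⟨(MulEquiv.subgroupCongr hTq).trans (MulEquiv.ofBijective ((qq P).subgroupMap (T : Subgroup ↥P))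
      ⟨fun a b hab => Subtype.ext (hinj a.2 b.2 (congrArg Subtype.val hab)),
        MonoidHom.subgroupMap_surjective _ _⟩).symm⟩
  -- what the flag analysis gives at a central involution
  have hflag : ∀ t : ↥P, t ∈ (T : Subgroup ↥P) → orderOf t = 2 → (∀ g ∈ (T : Subgroup ↥P), g * t = t * g) →
      Nonempty (↥(T : Subgroup ↥P) ≃* DihedralGroup 4) ∨
        ((∀ g ∈ (T : Subgroup ↥P), g * g = 1) ∧
          ∀ g : ↥P, g * t = t * g → g ^ 4 ∈ zz P) := by
    intro t htT ho hcen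
    have ht2 : (t : GL (Fin 3) F) * t = 1 := congrArg Subtype.val
      (show t * t = 1 by rw [← pow_two, ← ho, pow_orderOf_eq_one])
    have ht1 : (t : GL (Fin 3) F) ≠ 1 := fun h => by
      rw [show t = 1 from Subtype.ext h, orderOf_one] at ho; norm_num at ho
    rcases SL3Max.involution_cases ht2 ht1 (R.det_eq_one t) with ⟨-, c, φ, hc, hφ, hφc, htv⟩ | ⟨h, -⟩
    swap
    · exact absurd h2 h
    obtain ⟨s, hsT, hs2, hs1, hst⟩ := R.exists_second_involution T ho hcen
    let e : ↥(T : Subgroup ↥P) ≃* ↥((T : Subgroup ↥P).map P.subtype) :=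
      Subgroup.equivMapOfInjective _ _ P.subtype_injective
    rcases small_sylow R.sl hs ((T : Subgroup ↥P).map P.subtype) (Subgroup.map_subtype_le _)
      (by rintro _ ⟨g, hg, rfl⟩; obtain ⟨n, hn⟩ := hpow g hg; exact ⟨n, congrArg Subtype.val hn⟩)
      hc hφ hφc ⟨t, htT, htv⟩
      (by rintro _ ⟨g, hg, rfl⟩; rw [← htv]; exact congrArg Subtype.val (hcen g hg))
      ⟨s, ⟨s, hsT, rfl⟩, congrArg Subtype.val hs2, fun h => hs1 (Subtype.ext h),
        fun h => hst (Subtype.ext (h.trans htv.symm))⟩ with ⟨⟨e4⟩⟩ | ⟨h1, h4⟩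
    · exact Or.inl ⟨e.trans e4⟩
    · refine Or.inr ⟨fun g hg => Subtype.ext (h1 _ ⟨g, hg, rfl⟩), fun g hg => ?_⟩
      rw [Subgroup.mem_subgroupOf, SubgroupClass.coe_pow]
      exact h4 _ g.2 (by rw [← htv]; exact congrArg Subtype.val hg)
  have h2T : 2 ∣ Nat.card (T : Subgroup ↥P) :=
    T.dvd_card_of_dvd_card (R.two_dvd.trans (Subgroup.card_quotient_dvd_card _))
  haveI : Nontrivial ↥(T : Subgroup ↥P) := Finite.one_lt_card_iff_nontrivial.1 (by
    have := Nat.le_of_dvd Nat.card_pos h2T; omega)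
  haveI := T.isPGroup'.center_nontrivial
  obtain ⟨k, hk⟩ := IsPGroup.iff_card.1 (T.isPGroup'.to_subgroup (Subgroup.center ↥(T : Subgroup ↥P)))
  obtain ⟨t0, ht0⟩ := exists_prime_orderOf_dvd_card' (G := Subgroup.center ↥(T : Subgroup ↥P)) 2 (by
    rw [hk]
    refine dvd_pow_self 2 fun h0 => ?_
    have := Finite.one_lt_card (α := Subgroup.center ↥(T : Subgroup ↥P))
    rw [hk, h0, pow_zero] at this
    omega)
  obtain ⟨t, htdef⟩ : ∃ t : ↥P, t = ((t0 : ↥(T : Subgroup ↥P)) : ↥P) := ⟨_, rfl⟩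
  have ho : orderOf t = 2 := by rw [htdef, Subgroup.orderOf_coe, Subgroup.orderOf_coe, ht0]
  have htT : t ∈ (T : Subgroup ↥P) := htdef ▸ (t0 : ↥(T : Subgroup ↥P)).2
  have hcen : ∀ g ∈ (T : Subgroup ↥P), g * t = t * g := fun g hg => by
    rw [htdef]
    exact congrArg Subtype.val (Subgroup.mem_center_iff.1 t0.2 ⟨g, hg⟩)
  rcases hflag t htT ho hcen with ⟨⟨eD⟩⟩ | ⟨helem, -⟩
  · -- Gorenstein-Walter
    right
    haveI : Group.IsPerfect (Quo P) := ⟨R.perfect_quo⟩
    have hb := R.oddCore_quo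
    let eq0 : Quo P ⧸ Cfsg.oddCore (Quo P) ≃* Quo P :=
      (QuotientGroup.quotientMulEquivOfEq hb).trans QuotientGroup.quotientBot
    rcases Cfsg.Agent.S0483.result Tq 4 (by norm_num) ⟨fT.trans eD⟩ with ⟨K, iK, fK, hK, hK3, ⟨e⟩⟩ | ⟨⟨e⟩⟩
    · exact Or.inl ⟨K, iK, fK, hK, hK3, ⟨eq0.symm.trans e⟩⟩
    · exact Or.inr ⟨eq0.symm.trans e⟩
  · -- elementary
    left
    have habT : ∀ a ∈ (T : Subgroup ↥P), ∀ b ∈ (T : Subgroup ↥P), a * b = b * a := fun a ha b hb => by
      have h := helem _ (mul_mem ha hb)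
      have ea : a⁻¹ = a := inv_eq_of_mul_eq_one_right (helem a ha)
      have eb : b⁻¹ = b := inv_eq_of_mul_eq_one_right (helem b hb)
      calc a * b = (a * b)⁻¹ := (inv_eq_of_mul_eq_one_right h).symm
        _ = b * a := by rw [_root_.mul_inv_rev, ea, eb]
    have hcomm : IsMulCommutative (Tq : Subgroup (Quo P)) := ⟨⟨fun a b => fT.injective (by
      rw [map_mul, map_mul]
      exact Subtype.ext (habT _ (fT a).2 _ (fT b).2))⟩⟩
    have hexp : ∀ a ∈ (Tq : Subgroup (Quo P)), a ^ 2 = 1 := by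
      intro a ha
      rw [hTq] at ha
      obtain ⟨g, hg, rfl⟩ := ha
      rw [pow_two, ← map_mul, helem g hg, map_one]
    have hnc : ¬ IsCyclic (Tq : Subgroup (Quo P)) := by
      intro hcyc
      obtain ⟨s, hsT, hs2, hs1, hst⟩ := R.exists_second_involution T ho hcen
      haveI : IsCyclic ↥(T : Subgroup ↥P) := isCyclic_of_surjective fT fT.surjective
      obtain ⟨γ, hγ⟩ := IsCyclic.exists_generator (α := ↥(T : Subgroup ↥P))
      have hγ2 : γ ^ (2 : ℤ) = 1 := Subtype.ext (by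
        rw [SubgroupClass.coe_zpow, zpow_two]; exact helem _ γ.2)
      have hone : ∀ x : ↥(T : Subgroup ↥P), x = 1 ∨ x = γ := fun x => by
        obtain ⟨i, rfl⟩ := Subgroup.mem_zpowers_iff.1 (hγ x)
        rcases Int.even_or_odd i with ⟨j, rfl⟩ | ⟨j, rfl⟩
        · left; rw [← two_mul, _root_.zpow_mul, hγ2, _root_.one_zpow]
        · right; rw [_root_.zpow_add, _root_.zpow_mul, hγ2, _root_.one_zpow, one_mul, zpow_one]
      have ht1 : t ≠ 1 := fun h => by rw [h, orderOf_one] at ho; norm_num at ho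
      rcases hone ⟨s, hsT⟩ with h | h
      · exact hs1 (congrArg Subtype.val h)
      rcases hone ⟨t, htT⟩ with h' | h'
      · exact ht1 (congrArg Subtype.val h')
      · exact hst ((congrArg Subtype.val h).trans (congrArg Subtype.val h').symm)
    have hnn : ¬ (Tq : Subgroup (Quo P)).Normal := fun hN => by
      rcases hN.eq_bot_or_eq_top with h | h
      · exact hnc (h ▸ Bot.isCyclic)
      · exact R.nonab ⟨⟨fun a b => congrArg Subtype.val
          (hcomm.is_comm.comm ⟨a, h ▸ Subgroup.mem_top a⟩ ⟨b, h ▸ Subgroup.mem_top b⟩)⟩⟩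
    have hC : ∀ v : Quo P, orderOf v = 2 → IsMulCommutative (Subgroup.centralizer ({v} : Set (Quo P))) ∧
        ∀ c ∈ Subgroup.centralizer ({v} : Set (Quo P)), c ^ 2 = 1 := by
      intro v hv
      -- move the involution into the Sylow subgroup
      obtain ⟨Q, hQ⟩ : ∃ Q : Sylow 2 (Quo P), Subgroup.zpowers v ≤ Q := by
        refine IsPGroup.exists_le_sylow (IsPGroup.of_card (n := 1) ?_)
        rw [Nat.card_zpowers, hv, pow_one]
      obtain ⟨g, hg⟩ := MulAction.exists_smul_eq (Quo P) Q Tq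
      have hw : g * v * g⁻¹ ∈ (Tq : Subgroup (Quo P)) := by
        rw [← hg, Sylow.coe_subgroup_smul]
        exact ⟨_, hQ (Subgroup.mem_zpowers v), rfl⟩
      rw [hTq] at hw
      obtain ⟨t', ht'T, ht'⟩ := hw
      have hv1 : v ≠ 1 := fun h => by rw [h, orderOf_one] at hv; norm_num at hv
      have ht'1 : t' ≠ 1 := fun h => by
        rw [h, map_one, eq_comm, mul_inv_eq_one, mul_eq_left] at ht'
        exact hv1 ht'
      have ho' : orderOf t' = 2 := orderOf_eq_prime (by rw [pow_two]; exact helem t' ht'T) ht'1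
      rcases hflag t' ht'T ho' (fun x hx => habT x hx t' ht'T) with ⟨⟨eD⟩⟩ | ⟨-, h4⟩
      · exfalso
        have h := helem _ (eD.symm (DihedralGroup.r 1)).2
        have h' : eD.symm (DihedralGroup.r 1) * eD.symm (DihedralGroup.r 1) = 1 := Subtype.ext h
        rw [← map_mul, MulEquiv.map_eq_one_iff, DihedralGroup.r_mul_r, DihedralGroup.one_def] at h'
        exact absurd (DihedralGroup.r.inj h') (by decide)
      obtain ⟨D, hD⟩ : ∃ D, D = Subgroup.centralizer ({qq P t'} : Set (Quo P)) := ⟨_, rfl⟩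
      have hD2 : IsPGroup 2 D := fun ⟨x, hx⟩ => by
        obtain ⟨y, rfl⟩ := QuotientGroup.mk'_surjective _ x
        refine ⟨2, Subtype.ext ?_⟩
        show (qq P y) ^ (2 ^ 2) = 1
        rw [← map_pow, qq_eq_one]
        exact h4 y (R.commute_exact (helem t' ht'T)
          (Subgroup.mem_centralizer_singleton_iff.1 (hD ▸ hx)))
      have hTD : (Tq : Subgroup (Quo P)) ≤ D := fun x hx => by
        rw [hTq] at hx
        obtain ⟨y, hy, rfl⟩ := hx
        rw [hD, Subgroup.mem_centralizer_singleton_iff, ← map_mul, ← map_mul, habT y hy t' ht'T]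
      have hDeq : D = (Tq : Subgroup (Quo P)) := Tq.is_maximal' hD2 hTD
      have key : ∀ c ∈ Subgroup.centralizer ({v} : Set (Quo P)), g * c * g⁻¹ ∈ (Tq : Subgroup (Quo P)) := by
        intro c hc
        rw [← hDeq, hD, ht', Subgroup.mem_centralizer_singleton_iff]
        have hcv := Subgroup.mem_centralizer_singleton_iff.1 hc
        calc g * c * g⁻¹ * (g * v * g⁻¹) = g * (c * v) * g⁻¹ := by group
          _ = g * (v * c) * g⁻¹ := by rw [hcv]
          _ = g * v * g⁻¹ * (g * c * g⁻¹) := by group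
      refine ⟨⟨⟨fun a b => Subtype.ext ?_⟩⟩, fun c hc => ?_⟩
      · have h := congrArg Subtype.val (hcomm.is_comm.comm ⟨_, key a a.2⟩ ⟨_, key b b.2⟩)
        refine mul_left_cancel (a := g) (mul_right_cancel (b := g⁻¹) ?_)
        calc g * ((a : Quo P) * b) * g⁻¹ = g * a * g⁻¹ * (g * b * g⁻¹) := by group
          _ = g * b * g⁻¹ * (g * a * g⁻¹) := h
          _ = g * ((b : Quo P) * a) * g⁻¹ := by group
      · have h := hexp _ (key c hc)
        rwa [conj_pow, mul_inv_eq_one, mul_eq_left] at h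
    obtain ⟨K, iK, fK, hcard, ⟨e⟩⟩ := Cfsg.Agent.S1230.result Tq hnc hnn hC
    haveI : CharP K 2 := by
      obtain ⟨r, hr⟩ := CharP.exists K
      obtain ⟨n, hrp, hn⟩ := FiniteField.card K r
      have h2K : 2 ∣ r ^ (n : ℕ) := by
        rw [← hn, hcard, Nat.card_congr fT.toEquiv]
        exact h2T
      obtain rfl := (Nat.prime_dvd_prime_iff_eq Nat.prime_two hrp).1 (Nat.prime_two.dvd_of_dvd_pow h2K)
      exact hr
    refine R.case_real hF (R.zz_eq_bot_of_cyclic e fun S =>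
      haveI : Fact (Nat.Prime 3) := ⟨Nat.prime_three⟩
      OddTrans.psl_odd_sylow_cyclic (F := K) (by norm_num) S) fun x _ => isConj_of_equiv e ?_
    rw [map_inv]
    by_cases hd : orderOf (e x) ∣ 2
    · rw [inv_eq_of_mul_eq_one_right (by rw [← pow_two]; exact orderOf_dvd_iff_pow_eq_one.1 hd)]
    · exact isConj_inv_of_not_dvd 2 hd

/-- In characteristic two: classical, self-dual, or one of the small quotients. -/
theorem Res.even_cases (R : Res P) {α : ℕ} (hF : Fintype.card F = 2 ^ α) :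
    IsSLOrSU P ∨ HasQuad P ∨
      ((∃ (K : Type) (_ : Field K) (_ : Fintype K), Odd (Fintype.card K) ∧ 3 < Fintype.card K ∧
        Nonempty (Quo P ≃* Matrix.ProjectiveSpecialLinearGroup (Fin 2) K)) ∨
      Nonempty (Quo P ≃* alternatingGroup (Fin 7))) := by
  by_cases hs : SmallRoots P
  · exact Or.inr (R.small_roots_cases hF hs)
  · left
    unfold SmallRoots at hs
    push Not at hs
    obtain ⟨c, χ, l, hc, hχ, h, h', hl0, hl1⟩ := hs
    refine isSLOrSU_of_transvections_two CharTwo.two_eq_zero P R.sl R.irred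
      (R.closure_tvSet_eq fun hef => hef c ⟨hc, Transv.dot χ, fun h0 => hχ ?_, h.1, h.2⟩)
      ⟨c, χ, l, hc, hχ, hl0, hl1, h, h'⟩
    funext i
    simpa using congrArg (fun f : D3 F => f (Pi.single i 1)) h0

end Cfsg.Agent.Mitchell.Residual
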